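import Mathlib.AlgebraicGeometry.Morphisms.QuasiSeparated
import Mathlib.AlgebraicGeometry.AffineScheme

/-!
# Uniform exponents: algebraic lemmas
-/

set_option autoImplicit false
universe u

open CategoryTheory AlgebraicGeometry Opposite

namespace Groth.Agent.PiHom27

theorem span_pow_le {R : Type*} [CommRing R] {ι : Type*} (g : ι → R) (K : ℕ) (s : Finset ι) :
    Ideal.span (g '' s) ^ (s.card * K + 1) ≤ Ideal.span ((fun l => g l ^ K) '' s) := by
  classical
  induction s using Finset.induction_on with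
  | empty => simp
  | insert a s ha ih =>
    rw [Finset.coe_insert, Set.image_insert_eq, Set.image_insert_eq, Ideal.span_insert, Ideal.span_insert,
      Finset.card_insert_of_notMem ha]
    rw [show (s.card + 1) * K + 1 = K + (s.card * K + 1) by ring]
    refine Ideal.sup_pow_add_le_pow_sup_pow.trans (sup_le_sup ?_ ih)
    rw [Ideal.span_singleton_pow]

theorem pow_mem_span_pow {R : Type*} [CommRing R] {r : ℕ} {g : Fin r → R} {z : R} (K : ℕ)
    (hz : z ∈ Ideal.span (Set.range g)) : z ^ (r * K + 1) ∈ Ideal.span (Set.range fun l => g l ^ K) := by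
  have h := span_pow_le g K Finset.univ
  rw [Finset.coe_univ, Set.image_univ, Set.image_univ, Finset.card_univ, Fintype.card_fin] at h
  exact h (Ideal.pow_mem_pow hz _)

theorem exists_pow_mem_span_of_basicOpen_le {X : Scheme.{u}} {V : X.Opens} (hV : IsAffineOpen V) (c : Γ(X, V))
    {κ : Type*} (g : κ → Γ(X, V)) (h : X.basicOpen c ≤ ⨆ l, X.basicOpen (g l)) :
    ∃ n : ℕ, c ^ n ∈ Ideal.span (Set.range g) := by
  have hle : X.basicOpen c ≤ V := X.basicOpen_le c
  let ρ := (X.presheaf.map (homOfLE hle).op).hom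
  have htop : Ideal.span (Set.range fun l => ρ (g l)) = ⊤ := by
    refine (hV.basicOpen c).self_le_iSup_basicOpen_iff.1 fun x hx => ?_
    obtain ⟨l, hl⟩ := TopologicalSpace.Opens.mem_iSup.1 (h hx)
    refine TopologicalSpace.Opens.mem_iSup.2 ⟨⟨_, l, rfl⟩, ?_⟩
    show x ∈ X.basicOpen (X.presheaf.map (homOfLE hle).op (g l))
    rw [Scheme.basicOpen_res]
    exact ⟨hx, hl⟩
  letI := ρ.toAlgebra
  haveI : IsLocalization.Away c Γ(X, X.basicOpen c) := hV.isLocalization_basicOpen c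
  have h1 : algebraMap Γ(X, V) Γ(X, X.basicOpen c) 1 ∈ (Ideal.span (Set.range g)).map (algebraMap _ Γ(X, X.basicOpen c)) := by
    rw [Ideal.map_span, ← Set.range_comp]
    exact htop.ge trivial
  obtain ⟨_, ⟨n, rfl⟩, hn⟩ := (IsLocalization.algebraMap_mem_map_algebraMap_iff (Submonoid.powers c) _ _ _).1 h1
  exact ⟨n, by simpa using hn⟩

/-- A finite cover by basic opens of affine charts. -/
structure Cover (X : Scheme.{u}) where
  n : ℕ
  W : Fin n → X.Opens
  affine : ∀ m, IsAffineOpen (W m)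
  cover : ∀ x, ∃ m, x ∈ W m

theorem exists_cover (X : Scheme.{u}) [CompactSpace X] : Nonempty (Cover X) := by
  choose V hV hxV using fun x : X => exists_isAffineOpen_mem_and_subset (x := x) (U := ⊤) trivial
  obtain ⟨T, hT⟩ := isCompact_univ.elim_finite_subcover (fun x : X => (V x : Set X)) (fun x => (V x).isOpen)
    (fun x _ => Set.mem_iUnion.2 ⟨x, (hxV x).1⟩)
  refine ⟨⟨T.card, fun j => V (T.equivFin.symm j).1, fun j => hV _, fun x => ?_⟩⟩
  obtain ⟨y, hy, hx⟩ := Set.mem_iUnion₂.1 (hT (Set.mem_univ x))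
  exact ⟨T.equivFin ⟨y, hy⟩, by simpa using hx⟩

/-- Generators, chart by chart, for an open. -/
structure Fam {X : Scheme.{u}} (𝒞 : Cover X) (U : X.Opens) where
  r : Fin 𝒞.n → ℕ
  g : ∀ m, Fin (r m) → Γ(X, 𝒞.W m)
  le : ∀ m l, X.basicOpen (g m l) ≤ U
  ge : ∀ m, U ⊓ 𝒞.W m ≤ ⨆ l, X.basicOpen (g m l)

theorem exists_fam {X : Scheme.{u}} [QuasiSeparatedSpace X] (𝒞 : Cover X) {U : X.Opens} (hU : IsCompact (U : Set X)) :
    Nonempty (Fam 𝒞 U) := by
  have h : ∀ m, ∃ (r : ℕ) (g : Fin r → Γ(X, 𝒞.W m)), (∀ l, X.basicOpen (g l) ≤ U) ∧ U ⊓ 𝒞.W m ≤ ⨆ l, X.basicOpen (g l) := by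
    intro m
    have hc : IsCompact ((U : Set X) ∩ 𝒞.W m) :=
      QuasiSeparatedSpace.inter_isCompact _ _ U.isOpen hU (𝒞.W m).isOpen (𝒞.affine m).isCompact
    choose g hgU hxg using fun x : {x : X // x ∈ U ⊓ 𝒞.W m} =>
      (𝒞.affine m).exists_basicOpen_le (V := U ⊓ 𝒞.W m) x x.2.2
    obtain ⟨T, hT⟩ := hc.elim_finite_subcover (fun x => (X.basicOpen (g x) : Set X)) (fun x => (X.basicOpen (g x)).isOpen)
      (fun x hx => Set.mem_iUnion.2 ⟨⟨x, hx⟩, hxg ⟨x, hx⟩⟩)
    refine ⟨T.card, fun l => g (T.equivFin.symm l).1, fun l => (hgU _).trans inf_le_left, fun x hx => ?_⟩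
    obtain ⟨y, hy, hxy⟩ := Set.mem_iUnion₂.1 (hT hx)
    refine TopologicalSpace.Opens.mem_iSup.2 ⟨T.equivFin ⟨y, hy⟩, ?_⟩
    dsimp only
    rw [Equiv.symm_apply_apply]
    exact hxy
  choose r g h1 h2 using h
  exact ⟨⟨r, g, h1, h2⟩⟩

end Groth.Agent.PiHom27
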