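import Groth.Agent.Lib.PiHom27.Glue
import Mathlib.AlgebraicGeometry.PointsPi
import Mathlib.AlgebraicGeometry.Pullbacks

/-!
# Points with values in a product of rings
-/

set_option autoImplicit false
universe u

open CategoryTheory CategoryTheory.Limits AlgebraicGeometry Opposite TopologicalSpace

noncomputable section

namespace Groth.Agent.PiHom27

variable {X : Scheme.{u}} {𝒞 : Cover X} [QuasiSeparatedSpace X] {ι : Type u} {Y : ι → Scheme.{u}}
  (f : ∀ i, Y i ⟶ X)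

omit [QuasiSeparatedSpace X] in
theorem Adapted.basicOpen_le {U : X.Opens} {F : Fam 𝒞 U} {Z : Scheme.{u}} {g : Z ⟶ X} {b : Γ(Z, ⊤)} {e : ℕ}
    (hb : Adapted F g b e) : Z.basicOpen b ≤ g ⁻¹ᵁ U := by
  intro p hp
  obtain ⟨m, hm⟩ := 𝒞.cover (g p)
  have hu : IsUnit (κ p b) := (Z.mem_basicOpen b p trivial).1 hp
  by_contra hne
  have hle : Ideal.span (Set.range fun l => ρ g p (𝒞.W m) hm (F.g m l)) ≤ IsLocalRing.maximalIdeal _ := by
    refine Ideal.span_le.2 ?_
    rintro _ ⟨l, rfl⟩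
    refine (IsLocalRing.mem_maximalIdeal _).2 fun hl => hne (F.le m l ?_)
    exact (X.mem_basicOpen (F.g m l) (g p) hm).2 (isUnit_of_map_unit (g.stalkMap p).hom _ hl)
  exact (IsLocalRing.mem_maximalIdeal _).1 (hle (hb p m hm)) (hu.pow e)

omit [QuasiSeparatedSpace X] in
theorem basicOpen_le_of_mem_span {Z : Scheme.{u}} {O : Z.Opens} (s : Set Γ(Z, ⊤)) (hs : ∀ d ∈ s, Z.basicOpen d ≤ O)
    {c : Γ(Z, ⊤)} (hc : c ∈ Ideal.span s) : Z.basicOpen c ≤ O := by
  intro p hp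
  by_contra hne
  have hle : (Ideal.span s).map (κ p) ≤ IsLocalRing.maximalIdeal _ := by
    rw [Ideal.map_span]
    refine Ideal.span_le.2 ?_
    rintro _ ⟨d, hd, rfl⟩
    exact (IsLocalRing.mem_maximalIdeal _).2 fun hu => hne (hs d hd ((Z.mem_basicOpen d p trivial).2 hu))
  exact (IsLocalRing.mem_maximalIdeal _).1 (hle (Ideal.mem_map_of_mem _ hc)) ((Z.mem_basicOpen c p trivial).1 hp)

theorem exists_pow_adapted {U : X.Opens} (F : Fam 𝒞 U) {Z : Scheme.{u}} [IsAffine Z] (g : Z ⟶ X) (c : Γ(Z, ⊤))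
    (hc : Z.basicOpen c ≤ g ⁻¹ᵁ U) : ∃ n : ℕ, Adapted F g (c ^ n) 1 := by
  classical
  have H : ∀ m (p : Z) (hm : g p ∈ 𝒞.W m), ∃ d : Γ(Z, ⊤), p ∈ Z.basicOpen d ∧ Z.basicOpen d ≤ g ⁻¹ᵁ 𝒞.W m := by
    intro m p hm
    obtain ⟨d, hd1, hd2⟩ := (isAffineOpen_top Z).exists_basicOpen_le (V := g ⁻¹ᵁ 𝒞.W m) ⟨p, hm⟩ trivial
    exact ⟨d, hd2, hd1⟩
  have key : ∀ m (p : Z) (hm : g p ∈ 𝒞.W m), ∃ (O : Z.Opens), p ∈ O ∧ ∃ n : ℕ, ∀ q ∈ O, ∀ (hq : g q ∈ 𝒞.W m),
      κ q c ^ n ∈ Ideal.span (Set.range fun l => ρ g q (𝒞.W m) hq (F.g m l)) := by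
    intro m p hm
    obtain ⟨d, hp, hd⟩ := H m p hm
    have hV : IsAffineOpen (Z.basicOpen d) := (isAffineOpen_top Z).basicOpen d
    obtain ⟨n, hn⟩ := exists_pow_mem_span_of_basicOpen_le hV
      (Z.presheaf.map (homOfLE (Z.basicOpen_le d)).op c) (fun l => g.appLE (𝒞.W m) _ hd (F.g m l)) (by
        intro q hq
        rw [Scheme.basicOpen_res] at hq
        obtain ⟨l, hl⟩ := Opens.mem_iSup.1 (F.ge m ⟨hc hq.2, hd hq.1⟩)
        refine Opens.mem_iSup.2 ⟨l, ?_⟩
        rw [Scheme.basicOpen_appLE]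
        exact ⟨hq.1, hl⟩)
    refine ⟨_, hp, n, fun q hq hqm => ?_⟩
    have h2 := Ideal.mem_map_of_mem (Z.presheaf.germ (Z.basicOpen d) q hq).hom hn
    rw [map_pow, Ideal.map_span, ← Set.range_comp] at h2
    have h3 : ∀ x : Γ(X, 𝒞.W m), Z.presheaf.germ (Z.basicOpen d) q hq (g.appLE (𝒞.W m) _ hd x) =
        ρ g q (𝒞.W m) hqm x := fun x => by
      rw [Scheme.Hom.appLE, ConcreteCategory.comp_apply, Z.presheaf.germ_res_apply]
      exact (ConcreteCategory.congr_hom (g.germ_stalkMap (𝒞.W m) q hqm) x).symm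
    rw [Z.presheaf.germ_res_apply] at h2
    convert h2 using 3 <;> first | rfl | exact funext fun l => (h3 _).symm
  have hU : ∀ m, ∃ n : ℕ, ∀ q, ∀ (hq : g q ∈ 𝒞.W m),
      κ q c ^ n ∈ Ideal.span (Set.range fun l => ρ g q (𝒞.W m) hq (F.g m l)) := by
    intro m
    choose O hO n hn using key m
    have hc' : IsCompact (g ⁻¹ᵁ 𝒞.W m : Set Z) :=
      g.isCompact_preimage (𝒞.affine m).isCompact
    obtain ⟨T, hT⟩ := hc'.elim_finite_subcover (fun p : {p : Z // g p ∈ 𝒞.W m} => (O p.1 p.2 : Set Z))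
      (fun p => (O p.1 p.2).isOpen) (fun p hp => Set.mem_iUnion.2 ⟨⟨p, hp⟩, hO p hp⟩)
    refine ⟨∑ p ∈ T, n p.1 p.2, fun q hq => ?_⟩
    obtain ⟨p, hpT, hqp⟩ := Set.mem_iUnion₂.1 (hT hq)
    exact Ideal.pow_mem_of_pow_mem _ (hn p.1 p.2 q hqp hq)
      (Finset.single_le_sum (f := fun p : {p : Z // g p ∈ 𝒞.W m} => n p.1 p.2) (fun _ _ => Nat.zero_le _) hpT)
  choose n hn using hU
  refine ⟨∑ m, n m, fun p m hm => ?_⟩
  rw [pow_one, map_pow]
  exact Ideal.pow_mem_of_pow_mem _ (hn m p hm) (Finset.single_le_sum (f := n) (fun _ _ => Nat.zero_le _) (Finset.mem_univ m))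

theorem exists_adaptedP [∀ i, IsAffine (Y i)] (F : ∀ k, Fam 𝒞 (𝒞.W k)) :
    ∃ b : Fin 𝒞.n → P Y, (∀ k, AdaptedP f (F k) (b k) 1) ∧ Ideal.span (Set.range b) = ⊤ := by
  classical
  have H : ∀ i, ∃ c : Fin 𝒞.n → Γ(Y i, ⊤),
      (∀ k, (Y i).basicOpen (c k) ≤ f i ⁻¹ᵁ 𝒞.W k) ∧ Ideal.span (Set.range c) = ⊤ := by
    intro i
    let s : Fin 𝒞.n → Set Γ(Y i, ⊤) := fun k => {d | (Y i).basicOpen d ≤ f i ⁻¹ᵁ 𝒞.W k}
    have hs : Ideal.span (⋃ k, s k) = ⊤ := by
      refine (isAffineOpen_top (Y i)).self_le_iSup_basicOpen_iff.1 fun p hp => ?_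
      obtain ⟨k, hk⟩ := 𝒞.cover (f i p)
      obtain ⟨d, hd1, hd2⟩ := (isAffineOpen_top (Y i)).exists_basicOpen_le (V := f i ⁻¹ᵁ 𝒞.W k) ⟨p, hk⟩ hp
      exact Opens.mem_iSup.2 ⟨⟨d, Set.mem_iUnion.2 ⟨k, hd1⟩⟩, hd2⟩
    rw [Ideal.eq_top_iff_one, Ideal.span_iUnion] at hs
    obtain ⟨c, hc, hc1⟩ := (Submodule.mem_iSup_iff_exists_finsupp (fun k => Ideal.span (s k)) 1).1 hs
    refine ⟨fun k => c k, fun k => basicOpen_le_of_mem_span (s k) (fun d hd => hd) (hc k), ?_⟩
    rw [Ideal.eq_top_iff_one, ← hc1]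
    exact sum_mem fun k _ => Ideal.subset_span ⟨k, rfl⟩
  choose c hc hspan using H
  choose n hn using fun i k => exists_pow_adapted (F k) (f i) (c i k) (hc i k)
  refine ⟨fun k i => c i k ^ n i k, fun k i => hn i k, ?_⟩
  have h2 : ∀ i, Ideal.span (Set.range fun k => c i k ^ n i k) = ⊤ := fun i => by
    have h0 := Ideal.span_pow_eq_top (Set.range (c i)) (hspan i) (∑ k, n i k)
    refine top_le_iff.1 (h0 ▸ Ideal.span_le.2 ?_)
    rintro _ ⟨_, ⟨k, rfl⟩, rfl⟩
    exact Ideal.mem_of_dvd _ (pow_dvd_pow _ (Finset.single_le_sum (f := n i) (fun _ _ => Nat.zero_le _) (Finset.mem_univ k)))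
      (Ideal.subset_span ⟨k, rfl⟩)
  refine AlgebraicGeometry.Ideal.span_eq_top_of_span_image_evalRingHom _ (Set.finite_range _) fun i => ?_
  rw [← Set.range_comp]
  exact h2 i

/-- The morphism attached to a value system. -/
def alpha {b : P Y} {U : X.Opens} (hU : IsAffineOpen U) (φ : Γ(X, U) →+* Localization.Away b) :
    Spec (CommRingCat.of (Localization.Away b)) ⟶ X :=
  Spec.map (CommRingCat.ofHom φ) ≫ hU.fromSpec

theorem alpha_agree [∀ i, IsAffine (Y i)] {U U' : X.Opens} (hU : IsAffineOpen U) (hU' : IsAffineOpen U')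
    (F : Fam 𝒞 U) (F' : Fam 𝒞 U') {b b' : P Y} (hb : AdaptedP f F b 1) (hb' : AdaptedP f F' b' 1)
    (φ : Γ(X, U) →+* Localization.Away b) (hφ : ∀ x, IsVal f F b x (φ x))
    (φ' : Γ(X, U') →+* Localization.Away b') (hφ' : ∀ x, IsVal f F' b' x (φ' x))
    {S : CommRingCat.{u}} (χ : Localization.Away b →+* S) (χ' : Localization.Away b' →+* S)
    (hχ : χ.comp (algebraMap (P Y) _) = χ'.comp (algebraMap (P Y) _)) :
    Spec.map (CommRingCat.ofHom χ) ≫ alpha hU φ = Spec.map (CommRingCat.ofHom χ') ≫ alpha hU' φ' := by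
  -- the overlap is covered by basic opens
  choose g hgle hxg using fun x : {x : X // x ∈ U ⊓ U'} => hU.exists_basicOpen_le (V := U') ⟨x.1, x.2.2⟩ x.2.1
  have hc : IsCompact ((U : Set X) ∩ U') :=
    QuasiSeparatedSpace.inter_isCompact _ _ U.isOpen hU.isCompact U'.isOpen hU'.isCompact
  obtain ⟨T, hT⟩ := hc.elim_finite_subcover (fun x => (X.basicOpen (g x) : Set X)) (fun x => (X.basicOpen (g x)).isOpen)
    (fun x hx => Set.mem_iUnion.2 ⟨⟨x, hx⟩, hxg ⟨x, hx⟩⟩)
  let h : Fin T.card → Γ(X, U) := fun t => g (T.equivFin.symm t).1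
  have hcov : U ⊓ U' ≤ ⨆ t, X.basicOpen (h t) := fun x hx => by
    obtain ⟨y, hy, hxy⟩ := Set.mem_iUnion₂.1 (hT hx)
    refine Opens.mem_iSup.2 ⟨T.equivFin ⟨y, hy⟩, ?_⟩
    simp only [h, Equiv.symm_apply_apply]
    exact hxy
  have hb'u : IsUnit (χ (algebraMap (P Y) _ b')) := by
    have := RingHom.congr_fun hχ b'
    exact this ▸ (isUnit_self b').map χ'
  have hspan := exists_overlap_cover f F F' hb hb' h hcov (fun t => φ (h t)) (fun t => hφ (h t)) χ hb'u
  refine (Scheme.affineOpenCoverOfSpanRangeEqTop (R := S) (fun t => χ (φ (h t))) hspan).openCover.hom_ext _ _ fun t => ?_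
  show Spec.map (CommRingCat.ofHom (algebraMap S (Localization.Away (χ (φ (h t)))))) ≫ _ =
    Spec.map (CommRingCat.ofHom (algebraMap S (Localization.Away (χ (φ (h t)))))) ≫ _
  set a := algebraMap S (Localization.Away (χ (φ (h t))))
  let ξ := a.comp χ
  let ξ' := a.comp χ'
  have hξ : ξ.comp (algebraMap (P Y) _) = ξ'.comp (algebraMap (P Y) _) := by
    rw [RingHom.comp_assoc, hχ, ← RingHom.comp_assoc]
  have hu : IsUnit (ξ (φ (h t))) := IsLocalization.Away.algebraMap_isUnit (χ (φ (h t)))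
  let V := X.basicOpen (h t)
  have hV : IsAffineOpen V := hU.basicOpen (h t)
  have hVU' : V ≤ U' := hgle _
  let res := (X.presheaf.map (homOfLE (X.basicOpen_le (h t))).op).hom
  let res' := (X.presheaf.map (homOfLE hVU').op).hom
  letI := res.toAlgebra
  haveI : IsLocalization.Away (h t) Γ(X, V) := hU.isLocalization_basicOpen (h t)
  let ψ : Γ(X, V) →+* Localization.Away (χ (φ (h t))) :=
    IsLocalization.Away.lift (h t) (g := ξ.comp φ) hu
  have h1 : ψ.comp res = ξ.comp φ := IsLocalization.Away.lift_comp (h t) hu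
  have h2 : ψ.comp res' = ξ'.comp φ' := by
    ext x'
    obtain ⟨n, x, hx⟩ := exists_eq_pow_mul_of_isAffineOpen X U hU (h t) (res' x')
    have hx' : res x = res (h t) ^ n * res' x' := hx
    have heq : X.presheaf.map (homOfLE ((inf_le_right : U' ⊓ V ≤ V).trans (X.basicOpen_le (h t)))).op x =
        X.presheaf.map (homOfLE (inf_le_left : U' ⊓ V ≤ U')).op x' *
          X.presheaf.map (homOfLE ((inf_le_right : U' ⊓ V ≤ V).trans (X.basicOpen_le (h t)))).op (h t ^ n) := by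
      have := congrArg (X.presheaf.map (homOfLE (inf_le_right : U' ⊓ V ≤ V)).op) hx
      simp only [map_mul, map_pow, res', TopCat.Presheaf.restrictOpen, TopCat.Presheaf.restrict,
        ← ConcreteCategory.comp_apply, ← Functor.map_comp, ← op_comp, homOfLE_comp] at this ⊢
      rw [mul_comm]
      exact this
    have hcmp := exists_compare_pi f F F' b b' hb hb' heq (hφ x) (hφ (h t ^ n)) (hφ (h t)) (hφ' x') ξ ξ' hξ hu
    rw [map_pow φ, map_pow ξ] at hcmp
    have h4 : ψ (res x) = ξ (φ x) := RingHom.congr_fun h1 x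
    have h5 : ψ (res (h t)) = ξ (φ (h t)) := RingHom.congr_fun h1 (h t)
    rw [hx', map_mul, map_pow, h5, hcmp, mul_comm] at h4
    exact (hu.pow n).mul_right_cancel h4
  rw [alpha, alpha, ← Category.assoc, ← Category.assoc, ← Category.assoc, ← Category.assoc, ← Spec.map_comp,
    ← Spec.map_comp, ← Spec.map_comp, ← Spec.map_comp]
  have e1 : CommRingCat.ofHom φ ≫ CommRingCat.ofHom χ ≫ CommRingCat.ofHom a =
      X.presheaf.map (homOfLE (X.basicOpen_le (h t))).op ≫ CommRingCat.ofHom ψ := CommRingCat.hom_ext h1.symm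
  have e2 : CommRingCat.ofHom φ' ≫ CommRingCat.ofHom χ' ≫ CommRingCat.ofHom a =
      X.presheaf.map (homOfLE hVU').op ≫ CommRingCat.ofHom ψ := CommRingCat.hom_ext h2.symm
  rw [e1, e2, Spec.map_comp, Spec.map_comp, Category.assoc, Category.assoc, hU.map_fromSpec hV,
    hU'.map_fromSpec hV]

theorem exists_morphism [∀ i, IsAffine (Y i)] (𝒞' : Cover X) :
    ∃ g : Spec (CommRingCat.of (P Y)) ⟶ X,
      ∀ i, (Y i).toSpecΓ ≫ Spec.map (CommRingCat.ofHom (Pi.evalRingHom (fun j => (Γ(Y j, ⊤) : Type u)) i)) ≫ g = f i := by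
  let F' := fun k => Classical.choice (exists_fam 𝒞' (𝒞'.affine k).isCompact)
  obtain ⟨b, hb, hspan⟩ := exists_adaptedP f F'
  choose φ hφ using fun k => exists_hom f (F' k) (hb k)
  let 𝒰 := (Scheme.affineOpenCoverOfSpanRangeEqTop (R := CommRingCat.of (P Y)) b hspan).openCover
  have hglue : ∀ k k' : Fin 𝒞'.n,
      pullback.fst (Spec.map (CommRingCat.ofHom (algebraMap (P Y) (Localization.Away (b k)))))
          (Spec.map (CommRingCat.ofHom (algebraMap (P Y) (Localization.Away (b k'))))) ≫ alpha (𝒞'.affine k) (φ k) =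
      pullback.snd (Spec.map (CommRingCat.ofHom (algebraMap (P Y) (Localization.Away (b k)))))
          (Spec.map (CommRingCat.ofHom (algebraMap (P Y) (Localization.Away (b k'))))) ≫ alpha (𝒞'.affine k') (φ k') := by
    intro k k'
    rw [← cancel_epi (pullbackSpecIso (P Y) (Localization.Away (b k)) (Localization.Away (b k'))).inv]
    rw [pullbackSpecIso_inv_fst_assoc, pullbackSpecIso_inv_snd_assoc]
    exact alpha_agree f (𝒞'.affine k) (𝒞'.affine k') (F' k) (F' k') (hb k) (hb k') (φ k) (hφ k) (φ k') (hφ k')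
      (S := CommRingCat.of (TensorProduct (P Y) (Localization.Away (b k)) (Localization.Away (b k')))) _ _
      (RingHom.ext fun z => by
        simp [Algebra.algebraMap_eq_smul_one, TensorProduct.smul_tmul, Algebra.TensorProduct.one_def])
  let g := 𝒰.glueMorphisms (fun k => alpha (𝒞'.affine k) (φ k)) hglue
  have hg : ∀ k, Spec.map (CommRingCat.ofHom (algebraMap (P Y) (Localization.Away (b k)))) ≫ g =
      alpha (𝒞'.affine k) (φ k) := fun k => 𝒰.ι_glueMorphisms _ hglue k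
  refine ⟨g, fun i => ?_⟩
  let ev := Pi.evalRingHom (fun j => (Γ(Y j, ⊤) : Type u)) i
  refine Scheme.hom_ext_of_forall _ _ fun p => ?_
  have hcov : (⊤ : (Y i).Opens) ≤ ⨆ d : Set.range fun k => b k i, (Y i).basicOpen (d : Γ(Y i, ⊤)) := by
    refine (isAffineOpen_top (Y i)).self_le_iSup_basicOpen_iff.2 ?_
    have h0 := congrArg (Ideal.map ev) hspan
    rw [Ideal.map_span, Ideal.map_top, ← Set.range_comp] at h0
    exact h0
  obtain ⟨⟨_, k, rfl⟩, hk⟩ := Opens.mem_iSup.1 (hcov (show p ∈ ⊤ from trivial))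
  refine ⟨(Y i).basicOpen (b k i), hk, ?_⟩
  have hV : IsAffineOpen ((Y i).basicOpen (b k i)) := (isAffineOpen_top (Y i)).basicOpen (b k i)
  have hle : (Y i).basicOpen (b k i) ≤ f i ⁻¹ᵁ 𝒞'.W k := (hb k i).basicOpen_le
  let r := ((Y i).presheaf.map (homOfLE ((Y i).basicOpen_le (b k i))).op).hom
  have hu : IsUnit (r (b k i)) := by
    letI := r.toAlgebra
    haveI : IsLocalization.Away (b k i) Γ(Y i, (Y i).basicOpen (b k i)) :=
      (isAffineOpen_top (Y i)).isLocalization_basicOpen (b k i)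
    exact IsLocalization.Away.algebraMap_isUnit (S := Γ(Y i, (Y i).basicOpen (b k i))) (b k i)
  let χ : Localization.Away (b k) →+* Γ(Y i, (Y i).basicOpen (b k i)) :=
    IsLocalization.Away.lift (b k) (g := r.comp ev) hu
  have hχ : χ.comp (algebraMap (P Y) _) = r.comp ev := IsLocalization.Away.lift_comp (b k) hu
  have h1 : χ.comp (φ k) = ((f i).appLE (𝒞'.W k) _ hle).hom := by
    ext x
    obtain ⟨d, y, hy, hyz⟩ := hφ k x
    have h2 := congrArg χ hyz
    rw [map_mul, map_pow] at h2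
    erw [RingHom.congr_fun hχ (b k), RingHom.congr_fun hχ y] at h2
    have h3 := res_eq_mul_appLE f (F' k) (hb k) hy i hle
    refine (hu.pow d.M).mul_right_cancel (h2.trans (h3.trans (mul_comm _ _)))
  rw [← hV.isoSpec_hom_fromSpec, Category.assoc, Category.assoc, hV.fromSpec_toSpecΓ_assoc]
  congr 1
  have e : CommRingCat.ofHom ev ≫ (Y i).presheaf.map (homOfLE le_top).op =
      CommRingCat.ofHom (algebraMap (P Y) (Localization.Away (b k))) ≫ CommRingCat.ofHom χ := CommRingCat.hom_ext hχ.symm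
  rw [← Category.assoc, ← Spec.map_comp, e, Spec.map_comp, Category.assoc, hg, alpha, ← Category.assoc,
    ← Spec.map_comp, show CommRingCat.ofHom (φ k) ≫ CommRingCat.ofHom χ = (f i).appLE (𝒞'.W k) _ hle from
      CommRingCat.hom_ext h1, IsAffineOpen.SpecMap_appLE_fromSpec _ _ hV]

theorem pointsPi_surjective_of_qcqs (X : Scheme.{u}) [CompactSpace X] [QuasiSeparatedSpace X] {ι : Type u}
    (A : ι → CommRingCat.{u}) : Function.Surjective (pointsPi A X) := by
  intro f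
  obtain ⟨𝒞⟩ := exists_cover X
  obtain ⟨g, hg⟩ := exists_morphism (Y := fun i => Spec (A i)) f 𝒞
  let θ : P (fun i => Spec (A i)) →+* (∀ i, (A i : Type u)) :=
    RingHom.pi fun i => (Scheme.ΓSpecIso (A i)).hom.hom.comp (Pi.evalRingHom (fun j => (Γ(Spec (A j), ⊤) : Type u)) i)
  refine ⟨Spec.map (CommRingCat.ofHom θ) ≫ g, funext fun i => ?_⟩
  have e : CommRingCat.ofHom θ ≫ CommRingCat.ofHom (Pi.evalRingHom (fun j => (A j : Type u)) i) =
      CommRingCat.ofHom (Pi.evalRingHom (fun j => (Γ(Spec (A j), ⊤) : Type u)) i) ≫ (Scheme.ΓSpecIso (A i)).hom := rfl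
  refine Eq.trans ?_ (hg i)
  show Spec.map _ ≫ Spec.map _ ≫ g = _
  rw [← Category.assoc, ← Spec.map_comp, e, Spec.map_comp, Category.assoc, SpecMap_ΓSpecIso_hom]

end Groth.Agent.PiHom27
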