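import Groth.Agent.Lib.PiHom27.Algebra

/-!
# Bounded representations of pulled back sections
-/

set_option autoImplicit false
universe u

open CategoryTheory AlgebraicGeometry Opposite TopologicalSpace

noncomputable section

namespace Groth.Agent.PiHom27

variable {X : Scheme.{u}} {𝒞 : Cover X}

/-- Germs of pulled back sections. -/
def ρ {Y : Scheme.{u}} (f : Y ⟶ X) (p : Y) (V : X.Opens) (h : f p ∈ V) : Γ(X, V) →+* Y.presheaf.stalk p :=
  (X.presheaf.germ V (f p) h ≫ f.stalkMap p).hom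

/-- Germs of global sections. -/
def κ {Y : Scheme.{u}} (p : Y) : Γ(Y, ⊤) →+* Y.presheaf.stalk p := (Y.presheaf.germ ⊤ p trivial).hom

theorem ρ_res {Y : Scheme.{u}} (f : Y ⟶ X) (p : Y) {V' V : X.Opens} (hle : V' ≤ V) (h : f p ∈ V') (x : Γ(X, V)) :
    ρ f p V' h (X.presheaf.map (homOfLE hle).op x) = ρ f p V (hle h) x :=
  congrArg (f.stalkMap p) (X.presheaf.germ_res_apply (homOfLE hle) (f p) h x)

theorem eq_zero_of_κ {Y : Scheme.{u}} (z : Γ(Y, ⊤)) (h : ∀ p, κ p z = 0) : z = 0 :=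
  TopCat.Presheaf.section_ext Y.sheaf ⊤ z 0 fun p hp => (h p).trans (map_zero _).symm

/-- The element `b` is adapted to the family at the morphism. -/
def Adapted {U : X.Opens} (F : Fam 𝒞 U) {Y : Scheme.{u}} (f : Y ⟶ X) (b : Γ(Y, ⊤)) (e : ℕ) : Prop :=
  ∀ p m (hm : f p ∈ 𝒞.W m), κ p b ^ e ∈ Ideal.span (Set.range fun l => ρ f p (𝒞.W m) hm (F.g m l))

/-- Numerators and exponents for a section. -/
structure Rep {U : X.Opens} (F : Fam 𝒞 U) (x : Γ(X, U)) where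
  N : ℕ
  E : ℕ
  M : ℕ
  s : ∀ m, Fin (F.r m) → Γ(X, 𝒞.W m)
  num : ∀ m l, X.presheaf.map (homOfLE (X.basicOpen_le (F.g m l))).op (s m l) =
    X.presheaf.map (homOfLE (X.basicOpen_le (F.g m l))).op (F.g m l) ^ N * X.presheaf.map (homOfLE (F.le m l)).op x

/-- The condition on a germ. -/
def GoodAt {U : X.Opens} {F : Fam 𝒞 U} {x : Γ(X, U)} (d : Rep F x) {Y : Scheme.{u}} (f : Y ⟶ X) (p : Y)
    (β y : Y.presheaf.stalk p) : Prop :=
  ∀ m (hm : f p ∈ 𝒞.W m) l,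
    ρ f p (𝒞.W m) hm (F.g m l) ^ d.E * (ρ f p (𝒞.W m) hm (F.g m l) ^ d.N * y) =
      ρ f p (𝒞.W m) hm (F.g m l) ^ d.E * (β ^ d.M * ρ f p (𝒞.W m) hm (d.s m l))

/-- The global element `y / b ^ M` represents the pullback. -/
def Good {U : X.Opens} {F : Fam 𝒞 U} {x : Γ(X, U)} (d : Rep F x) {Y : Scheme.{u}} (f : Y ⟶ X)
    (b y : Γ(Y, ⊤)) : Prop :=
  ∀ p, GoodAt d f p (κ p b) (κ p y)

theorem key_identity {S : Type*} [CommRing S] {g g' β β' y yu yh y' s su sh s' : S}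
    {N E M Nu Eu Mu Nh Eh Mh N' E' M' A : ℕ}
    (hy : g ^ E * (g ^ N * y) = g ^ E * (β ^ M * s)) (hu : g ^ Eu * (g ^ Nu * yu) = g ^ Eu * (β ^ Mu * su))
    (hh : g ^ Eh * (g ^ Nh * yh) = g ^ Eh * (β ^ Mh * sh)) (hy' : g' ^ E' * (g' ^ N' * y') = g' ^ E' * (β' ^ M' * s'))
    (hΔ : (g * g' * sh) ^ A * (s * g' ^ N' * g ^ Nu - s' * su * g ^ N) = 0) :
    g ^ (E + Eu + Eh + N + Nu + Nh * A + A) * g' ^ (E' + N' + A) *
      (yh ^ A * (y * β' ^ M' * β ^ Mu - y' * yu * β ^ M)) = 0 := by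
  have hh' : g ^ Eh * (g ^ Nh * yh) ^ A = g ^ Eh * (β ^ Mh * sh) ^ A := by
    obtain ⟨c, hc⟩ := sub_dvd_pow_sub_pow (g ^ Nh * yh) (β ^ Mh * sh) A
    rw [← sub_eq_zero, ← mul_sub, hc, ← mul_assoc, mul_sub, hh, sub_self, zero_mul]
  calc g ^ (E + Eu + Eh + N + Nu + Nh * A + A) * g' ^ (E' + N' + A) *
      (yh ^ A * (y * β' ^ M' * β ^ Mu - y' * yu * β ^ M))
      = (g ^ A * g' ^ A) * (g ^ Eh * (g ^ Nh * yh) ^ A) *
          ((g ^ E * (g ^ N * y)) * (g ^ Eu * g ^ Nu * g' ^ E' * g' ^ N' * β' ^ M' * β ^ Mu) -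
            (g' ^ E' * (g' ^ N' * y')) * (g ^ Eu * (g ^ Nu * yu)) * (g ^ E * g ^ N * β ^ M)) := by ring
    _ = (g ^ A * g' ^ A) * (g ^ Eh * (β ^ Mh * sh) ^ A) *
          ((g ^ E * (β ^ M * s)) * (g ^ Eu * g ^ Nu * g' ^ E' * g' ^ N' * β' ^ M' * β ^ Mu) -
            (g' ^ E' * (β' ^ M' * s')) * (g ^ Eu * (β ^ Mu * su)) * (g ^ E * g ^ N * β ^ M)) := by rw [hy, hu, hh', hy']
    _ = (g ^ (E + Eu + Eh) * g' ^ E' * β ^ (M + Mu + Mh * A) * β' ^ M') *
          ((g * g' * sh) ^ A * (s * g' ^ N' * g ^ Nu - s' * su * g ^ N)) := by ring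
    _ = 0 := by rw [hΔ, mul_zero]

theorem mul_eq_zero_of_mem_span {S : Type*} [CommRing S] {ι : Type*} {g : ι → S} {a z : S}
    (ha : a ∈ Ideal.span (Set.range g)) (h : ∀ l, g l * z = 0) : a * z = 0 := by
  have hle : Ideal.span (Set.range g) ≤ LinearMap.ker (LinearMap.toSpanSingleton S S z) := by
    refine Ideal.span_le.2 ?_
    rintro _ ⟨l, rfl⟩
    exact LinearMap.mem_ker.2 (h l)
  exact LinearMap.mem_ker.1 (hle ha)

theorem exists_compare [QuasiSeparatedSpace X] {U U' : X.Opens} {F : Fam 𝒞 U} {F' : Fam 𝒞 U'} {x u h : Γ(X, U)}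
    {x' : Γ(X, U')} (dx : Rep F x) (du : Rep F u) (dh : Rep F h) (dx' : Rep F' x')
    (heq : X.presheaf.map (homOfLE ((inf_le_right : U' ⊓ X.basicOpen h ≤ X.basicOpen h).trans (X.basicOpen_le h))).op x =
      X.presheaf.map (homOfLE (inf_le_left : U' ⊓ X.basicOpen h ≤ U')).op x' *
        X.presheaf.map (homOfLE ((inf_le_right : U' ⊓ X.basicOpen h ≤ X.basicOpen h).trans (X.basicOpen_le h))).op u)
    (e e' : ℕ) :
    ∃ K A : ℕ, ∀ {Y : Scheme.{u}} (f : Y ⟶ X) (b b' : Γ(Y, ⊤)), Adapted F f b e → Adapted F' f b' e' →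
      ∀ y yu yh y', Good dx f b y → Good du f b yu → Good dh f b yh → Good dx' f b' y' →
        (b * b') ^ K * (yh ^ A * (y * b' ^ dx'.M * b ^ du.M - y' * yu * b ^ dx.M)) = 0 := by
  classical
  have hA : ∀ m (l : Fin (F.r m)) (l' : Fin (F'.r m)), ∃ A : ℕ, (F.g m l * F'.g m l' * dh.s m l) ^ A *
      (dx.s m l * F'.g m l' ^ dx'.N * F.g m l ^ du.N - dx'.s m l' * du.s m l * F.g m l ^ dx.N) = 0 := by
    intro m l l'
    set G := F.g m l * F'.g m l' * dh.s m l with hG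
    set Δ := dx.s m l * F'.g m l' ^ dx'.N * F.g m l ^ du.N - dx'.s m l' * du.s m l * F.g m l ^ dx.N with hΔ
    refine exists_pow_mul_eq_zero_of_res_basicOpen_eq_zero_of_isCompact X (𝒞.affine m).isCompact Δ G ?_
    have hle1 : X.basicOpen G ≤ X.basicOpen (F.g m l) := by
      rw [hG, Scheme.basicOpen_mul, Scheme.basicOpen_mul]; exact inf_le_left.trans inf_le_left
    have hle2 : X.basicOpen G ≤ X.basicOpen (F'.g m l') := by
      rw [hG, Scheme.basicOpen_mul, Scheme.basicOpen_mul]; exact inf_le_left.trans inf_le_right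
    have hle3 : X.basicOpen G ≤ U' ⊓ X.basicOpen h := by
      refine le_inf (hle2.trans (F'.le m l')) ?_
      have h4 := congrArg (fun t => X.basicOpen t) (dh.num m l)
      simp only [Scheme.basicOpen_res, Scheme.basicOpen_mul] at h4
      have h5 : X.basicOpen G ≤ X.basicOpen (F.g m l) ⊓ X.basicOpen (dh.s m l) := by
        rw [hG, Scheme.basicOpen_mul, Scheme.basicOpen_mul]; exact le_inf (inf_le_left.trans inf_le_left) inf_le_right
      exact (h5.trans h4.le).trans (inf_le_right.trans inf_le_right)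
    let V := X.basicOpen G
    let r := (X.presheaf.map (homOfLE (X.basicOpen_le G)).op).hom
    show r Δ = 0
    have num1 : ∀ {U₁ : X.Opens} {F₁ : Fam 𝒞 U₁} {x₁ : Γ(X, U₁)} (d : Rep F₁ x₁) (j : Fin (F₁.r m))
        (hj : X.basicOpen G ≤ X.basicOpen (F₁.g m j)),
        r (d.s m j) = r (F₁.g m j) ^ d.N * X.presheaf.map (homOfLE (hj.trans (F₁.le m j))).op x₁ := by
      intro U₁ F₁ x₁ d j hj
      have := congrArg (X.presheaf.map (homOfLE hj).op) (d.num m j)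
      simp only [map_mul, map_pow, ← ConcreteCategory.comp_apply, ← Functor.map_comp, ← op_comp, homOfLE_comp] at this
      exact this
    have heq' := congrArg (X.presheaf.map (homOfLE hle3).op) heq
    simp only [map_mul, ← ConcreteCategory.comp_apply, ← Functor.map_comp, ← op_comp, homOfLE_comp] at heq'
    rw [hΔ, map_sub, map_mul, map_mul, map_mul, map_mul, map_pow, map_pow, map_pow, num1 dx l hle1, num1 du l hle1,
      num1 dx' l' hle2, heq']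
    ring
  choose A hA using hA
  let A₀ := ∑ m, ∑ l, ∑ l', A m l l'
  have hA₀ : ∀ m l l', A m l l' ≤ A₀ := fun m l l' =>
    ((Finset.single_le_sum (f := fun l'' => A m l l'') (fun _ _ => Nat.zero_le _) (Finset.mem_univ l')).trans
      (Finset.single_le_sum (f := fun l'' => ∑ l', A m l'' l') (fun _ _ => Nat.zero_le _) (Finset.mem_univ l))).trans
      (Finset.single_le_sum (f := fun m' => ∑ l, ∑ l', A m' l l') (fun _ _ => Nat.zero_le _) (Finset.mem_univ m))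
  let B := dx.E + du.E + dh.E + dx.N + du.N + dh.N * A₀ + A₀
  let B' := dx'.E + dx'.N + A₀
  let R := ∑ m, F.r m
  let R' := ∑ m, F'.r m
  refine ⟨e * (R * B + 1) + e' * (R' * B' + 1), A₀, fun {Y} f b b' hb hb' y yu yh y' hy hu hh hy' => ?_⟩
  refine eq_zero_of_κ _ fun p => ?_
  obtain ⟨m, hm⟩ := 𝒞.cover (f p)
  simp only [map_mul, map_pow, map_sub]
  let γ := fun l => ρ f p (𝒞.W m) hm (F.g m l)
  let γ' := fun l => ρ f p (𝒞.W m) hm (F'.g m l)
  have h1 : κ p b ^ (e * (R * B + 1)) ∈ Ideal.span (Set.range fun l => γ l ^ B) := by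
    have h := pow_mem_span_pow B (hb p m hm)
    rw [← pow_mul] at h
    refine Ideal.pow_mem_of_pow_mem (m := e * (F.r m * B + 1)) _ h ?_
    exact Nat.mul_le_mul_left _ (Nat.add_le_add_right (Nat.mul_le_mul_right _ (Finset.single_le_sum (f := F.r) (fun _ _ => Nat.zero_le _) (Finset.mem_univ m))) 1)
  have h2 : κ p b' ^ (e' * (R' * B' + 1)) ∈ Ideal.span (Set.range fun l => γ' l ^ B') := by
    have h := pow_mem_span_pow B' (hb' p m hm)
    rw [← pow_mul] at h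
    refine Ideal.pow_mem_of_pow_mem (m := e' * (F'.r m * B' + 1)) _ h ?_
    exact Nat.mul_le_mul_left _ (Nat.add_le_add_right (Nat.mul_le_mul_right _ (Finset.single_le_sum (f := F'.r) (fun _ _ => Nat.zero_le _) (Finset.mem_univ m))) 1)
  set T := κ p yh ^ A₀ * (κ p y * κ p b' ^ dx'.M * κ p b ^ du.M - κ p y' * κ p yu * κ p b ^ dx.M)
  set P := e * (R * B + 1)
  set P' := e' * (R' * B' + 1)
  have h3 : κ p b ^ P * (κ p b' ^ P' * T) = 0 := by
    refine mul_eq_zero_of_mem_span h1 fun l => ?_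
    rw [mul_left_comm]
    refine mul_eq_zero_of_mem_span h2 fun l' => ?_
    rw [← mul_assoc, mul_comm (γ' l' ^ B')]
    refine key_identity (hy p m hm l) (hu p m hm l) (hh p m hm l) (hy' p m hm l') ?_
    have := congrArg (ρ f p (𝒞.W m) hm) (hA m l l')
    simp only [map_mul, map_pow, map_sub, map_zero] at this
    rw [← Nat.add_sub_cancel' (hA₀ m l l'), pow_add, mul_assoc, mul_left_comm, this, mul_zero]
  calc (κ p b * κ p b') ^ (P + P') * T = κ p b ^ P' * κ p b' ^ P * (κ p b ^ P * (κ p b' ^ P' * T)) := by ring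
    _ = 0 := by rw [h3, mul_zero]

theorem exists_num [QuasiSeparatedSpace X] {U : X.Opens} (F : Fam 𝒞 U) (x : Γ(X, U)) :
    ∃ (N : ℕ) (s : ∀ m, Fin (F.r m) → Γ(X, 𝒞.W m)), ∀ m l,
      X.presheaf.map (homOfLE (X.basicOpen_le (F.g m l))).op (s m l) =
        X.presheaf.map (homOfLE (X.basicOpen_le (F.g m l))).op (F.g m l) ^ N * X.presheaf.map (homOfLE (F.le m l)).op x := by
  have h : ∀ m l, ∃ (n : ℕ) (s : Γ(X, 𝒞.W m)), X.presheaf.map (homOfLE (X.basicOpen_le (F.g m l))).op s =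
      X.presheaf.map (homOfLE (X.basicOpen_le (F.g m l))).op (F.g m l) ^ n * X.presheaf.map (homOfLE (F.le m l)).op x :=
    fun m l => exists_eq_pow_mul_of_isAffineOpen X (𝒞.W m) (𝒞.affine m) (F.g m l) _
  choose n s hs using h
  let N := ∑ m, ∑ l, n m l
  have hN : ∀ m l, n m l ≤ N := fun m l =>
    (Finset.single_le_sum (f := fun l => n m l) (fun _ _ => Nat.zero_le _) (Finset.mem_univ l)).trans
      (Finset.single_le_sum (f := fun m' => ∑ l, n m' l) (fun _ _ => Nat.zero_le _) (Finset.mem_univ m))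
  refine ⟨N, fun m l => s m l * F.g m l ^ (N - n m l), fun m l => ?_⟩
  rw [map_mul, map_pow, hs, mul_right_comm, ← pow_add, Nat.add_sub_cancel' (hN m l)]

theorem exists_goodAt_section {U : X.Opens} {F : Fam 𝒞 U} {x : Γ(X, U)} (N E : ℕ)
    (s : ∀ m, Fin (F.r m) → Γ(X, 𝒞.W m))
    (hΔ : ∀ m m' (l : Fin (F.r m)) (l' : Fin (F.r m')),
      (X.presheaf.map (homOfLE (inf_le_left : 𝒞.W m ⊓ 𝒞.W m' ≤ 𝒞.W m)).op (F.g m l) *
        X.presheaf.map (homOfLE (inf_le_right : 𝒞.W m ⊓ 𝒞.W m' ≤ 𝒞.W m')).op (F.g m' l')) ^ E *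
      (X.presheaf.map (homOfLE (inf_le_right : 𝒞.W m ⊓ 𝒞.W m' ≤ 𝒞.W m')).op (F.g m' l') ^ N *
          X.presheaf.map (homOfLE (inf_le_left : 𝒞.W m ⊓ 𝒞.W m' ≤ 𝒞.W m)).op (s m l) -
        X.presheaf.map (homOfLE (inf_le_left : 𝒞.W m ⊓ 𝒞.W m' ≤ 𝒞.W m)).op (F.g m l) ^ N *
          X.presheaf.map (homOfLE (inf_le_right : 𝒞.W m ⊓ 𝒞.W m' ≤ 𝒞.W m')).op (s m' l')) = 0)
    {Y : Scheme.{u}} (f : Y ⟶ X) (b : Γ(Y, ⊤)) {e : ℕ} (hb : Adapted F f b e)
    (hs : ∀ m l, X.presheaf.map (homOfLE (X.basicOpen_le (F.g m l))).op (s m l) =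
      X.presheaf.map (homOfLE (X.basicOpen_le (F.g m l))).op (F.g m l) ^ N * X.presheaf.map (homOfLE (F.le m l)).op x)
    (p : Y) :
    ∃ (V : Y.Opens) (_ : p ∈ V) (y : Γ(Y, V)), ∀ q (hq : q ∈ V),
      GoodAt (⟨N, E, e * ((∑ m, F.r m) * (N + E) + 1), s, hs⟩ : Rep F x) f q (κ q b) (Y.presheaf.germ V q hq y) := by
  classical
  obtain ⟨m, hm⟩ := 𝒞.cover (f p)
  set M := e * ((∑ m, F.r m) * (N + E) + 1)
  have h1 : κ p b ^ M ∈ Ideal.span (Set.range fun l => ρ f p (𝒞.W m) hm (F.g m l) ^ (N + E)) := by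
    have h := pow_mem_span_pow (N + E) (hb p m hm)
    rw [← pow_mul] at h
    refine Ideal.pow_mem_of_pow_mem (m := e * (F.r m * (N + E) + 1)) _ h ?_
    exact Nat.mul_le_mul_left _ (Nat.add_le_add_right (Nat.mul_le_mul_right _ (Finset.single_le_sum (f := F.r) (fun _ _ => Nat.zero_le _) (Finset.mem_univ m))) 1)
  obtain ⟨c, hc⟩ := (Submodule.mem_span_range_iff_exists_fun _).1 h1
  choose V₁ hpV₁ c' hc' using fun l => Y.presheaf.exists_germ_eq (c l)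
  let V₂ : Y.Opens := (f ⁻¹ᵁ 𝒞.W m) ⊓ Finset.univ.inf V₁
  have hV₂ : ∀ l, V₂ ≤ V₁ l := fun l => inf_le_right.trans (Finset.inf_le (Finset.mem_univ l))
  have hinf : ∀ t : Finset (Fin (F.r m)), p ∈ t.inf V₁ := fun t => by
    induction t using Finset.induction_on with
    | empty => exact trivial
    | insert l t hl ih => rw [Finset.inf_insert]; exact ⟨hpV₁ l, ih⟩
  have hpV₂ : p ∈ V₂ := ⟨hm, hinf _⟩
  let G : Fin (F.r m) → Γ(Y, V₂) := fun l => f.appLE (𝒞.W m) V₂ inf_le_left (F.g m l)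
  let C : Fin (F.r m) → Γ(Y, V₂) := fun l => Y.presheaf.map (homOfLE (hV₂ l)).op (c' l)
  have hgerm : ∀ q (hq : q ∈ V₂) (z : Γ(X, 𝒞.W m)),
      Y.presheaf.germ V₂ q hq (f.appLE (𝒞.W m) V₂ inf_le_left z) = ρ f q (𝒞.W m) hq.1 z := fun q hq z => by
    rw [Scheme.Hom.appLE, ConcreteCategory.comp_apply, Y.presheaf.germ_res_apply]
    exact (ConcreteCategory.congr_hom (f.germ_stalkMap (𝒞.W m) q hq.1) z).symm
  have heq : Y.presheaf.germ V₂ p hpV₂ (∑ l, C l * G l ^ (N + E)) =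
      Y.presheaf.germ V₂ p hpV₂ (Y.presheaf.map (homOfLE (le_top : V₂ ≤ ⊤)).op b ^ M) := by
    rw [map_pow, Y.presheaf.germ_res_apply, map_sum]
    refine Eq.trans ?_ hc
    refine Finset.sum_congr rfl fun l _ => ?_
    rw [map_mul, map_pow, hgerm, Y.presheaf.germ_res_apply, hc' l]
    rfl
  obtain ⟨V, hpV, i₁, i₂, hV⟩ := Y.presheaf.germ_eq p hpV₂ hpV₂ _ _ heq
  refine ⟨V, hpV, Y.presheaf.map i₁.op (∑ l, C l * (G l ^ E * f.appLE (𝒞.W m) V₂ inf_le_left (s m l))), fun q hq m' hm' l' => ?_⟩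
  have hq₂ : q ∈ V₂ := i₁.le hq
  have hb' : κ q b ^ M = ∑ l, Y.presheaf.germ V₂ q hq₂ (C l) * ρ f q (𝒞.W m) hq₂.1 (F.g m l) ^ (N + E) := by
    have := congrArg (Y.presheaf.germ V q hq) hV
    rw [Y.presheaf.germ_res_apply, Y.presheaf.germ_res_apply, map_pow, Y.presheaf.germ_res_apply, map_sum] at this
    refine (Eq.trans (Eq.symm this) (Finset.sum_congr rfl fun l _ => ?_))
    rw [map_mul, map_pow, hgerm]
  show _ * (_ * _) = _ * (κ q b ^ M * _)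
  rw [hb', Y.presheaf.germ_res_apply, map_sum, ← sub_eq_zero, Finset.mul_sum, Finset.mul_sum, Finset.sum_mul,
    Finset.mul_sum, ← Finset.sum_sub_distrib]
  refine Finset.sum_eq_zero fun l _ => ?_
  rw [map_mul, map_mul, map_pow, hgerm, hgerm]
  have := congrArg (ρ f q (𝒞.W m ⊓ 𝒞.W m') ⟨hq₂.1, hm'⟩) (hΔ m m' l l')
  simp only [map_mul, map_pow, map_sub, map_zero, ρ_res] at this
  have h2 := congrArg (Y.presheaf.germ V₂ q hq₂ (C l) * ·) this
  simp only [mul_zero] at h2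
  refine Eq.trans ?_ h2
  ring

theorem exists_rep [QuasiSeparatedSpace X] {U : X.Opens} (F : Fam 𝒞 U) (x : Γ(X, U)) (e : ℕ) :
    ∃ d : Rep F x, ∀ {Y : Scheme.{u}} (f : Y ⟶ X) (b : Γ(Y, ⊤)), Adapted F f b e → ∃ y, Good d f b y := by
  classical
  obtain ⟨N, s, hs⟩ := exists_num F x
  have hE : ∀ m m' (l : Fin (F.r m)) (l' : Fin (F.r m')), ∃ E : ℕ,
      (X.presheaf.map (homOfLE (inf_le_left : 𝒞.W m ⊓ 𝒞.W m' ≤ 𝒞.W m)).op (F.g m l) *
        X.presheaf.map (homOfLE (inf_le_right : 𝒞.W m ⊓ 𝒞.W m' ≤ 𝒞.W m')).op (F.g m' l')) ^ E *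
      (X.presheaf.map (homOfLE (inf_le_right : 𝒞.W m ⊓ 𝒞.W m' ≤ 𝒞.W m')).op (F.g m' l') ^ N *
          X.presheaf.map (homOfLE (inf_le_left : 𝒞.W m ⊓ 𝒞.W m' ≤ 𝒞.W m)).op (s m l) -
        X.presheaf.map (homOfLE (inf_le_left : 𝒞.W m ⊓ 𝒞.W m' ≤ 𝒞.W m)).op (F.g m l) ^ N *
          X.presheaf.map (homOfLE (inf_le_right : 𝒞.W m ⊓ 𝒞.W m' ≤ 𝒞.W m')).op (s m' l')) = 0 := by
    intro m m' l l'
    set g₁ := X.presheaf.map (homOfLE (inf_le_left : 𝒞.W m ⊓ 𝒞.W m' ≤ 𝒞.W m)).op (F.g m l) with hg₁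
    set g₂ := X.presheaf.map (homOfLE (inf_le_right : 𝒞.W m ⊓ 𝒞.W m' ≤ 𝒞.W m')).op (F.g m' l') with hg₂
    refine exists_pow_mul_eq_zero_of_res_basicOpen_eq_zero_of_isCompact X
      (U := 𝒞.W m ⊓ 𝒞.W m') (QuasiSeparatedSpace.inter_isCompact _ _ (𝒞.W m).isOpen (𝒞.affine m).isCompact
        (𝒞.W m').isOpen (𝒞.affine m').isCompact) _ (g₁ * g₂) ?_
    have hle1 : X.basicOpen (g₁ * g₂) ≤ X.basicOpen (F.g m l) := by
      rw [Scheme.basicOpen_mul, hg₁, Scheme.basicOpen_res]; exact inf_le_left.trans inf_le_right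
    have hle2 : X.basicOpen (g₁ * g₂) ≤ X.basicOpen (F.g m' l') := by
      exact (X.basicOpen_mul g₁ g₂).le.trans (inf_le_right.trans ((X.basicOpen_res (F.g m' l') _).le.trans inf_le_right))
    have h1 := congrArg (X.presheaf.map (homOfLE hle1).op) (hs m l)
    have h2 := congrArg (X.presheaf.map (homOfLE hle2).op) (hs m' l')
    simp only [map_mul, map_pow, ← ConcreteCategory.comp_apply, ← Functor.map_comp, ← op_comp, homOfLE_comp] at h1 h2
    show (X.presheaf.map (homOfLE (X.basicOpen_le (g₁ * g₂))).op) _ = 0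
    simp only [hg₁, hg₂, map_mul, map_pow, map_sub, ← ConcreteCategory.comp_apply, ← Functor.map_comp, ← op_comp, homOfLE_comp]
    rw [h1, h2]
    ring
  choose E hE using hE
  let E₀ := ∑ m, ∑ m', ∑ l, ∑ l', E m m' l l'
  have hE₀ : ∀ m m' l l', E m m' l l' ≤ E₀ := fun m m' l l' =>
    (((Finset.single_le_sum (f := fun j => E m m' l j) (fun _ _ => Nat.zero_le _) (Finset.mem_univ l')).trans
      (Finset.single_le_sum (f := fun j => ∑ j', E m m' j j') (fun _ _ => Nat.zero_le _) (Finset.mem_univ l))).trans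
      (Finset.single_le_sum (f := fun j => ∑ l, ∑ l', E m j l l') (fun _ _ => Nat.zero_le _) (Finset.mem_univ m'))).trans
      (Finset.single_le_sum (f := fun j => ∑ m', ∑ l, ∑ l', E j m' l l') (fun _ _ => Nat.zero_le _) (Finset.mem_univ m))
  let M := e * ((∑ m, F.r m) * (N + E₀) + 1)
  refine ⟨⟨N, E₀, M + M, s, hs⟩, fun {Y} f b hb => ?_⟩
  choose V hpV y hy using exists_goodAt_section N E₀ s (fun m m' l l' => by
    rw [← Nat.add_sub_cancel' (hE₀ m m' l l'), pow_add, mul_comm ((_ : Γ(X, 𝒞.W m ⊓ 𝒞.W m')) ^ E m m' l l'),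
      mul_assoc, hE, mul_zero]) f b hb hs
  -- two germs differ by something killed by `b ^ M`
  have huniq : ∀ q (y₁ y₂ : Y.presheaf.stalk q), GoodAt (⟨N, E₀, M, s, hs⟩ : Rep F x) f q (κ q b) y₁ →
      GoodAt (⟨N, E₀, M, s, hs⟩ : Rep F x) f q (κ q b) y₂ → κ q b ^ M * y₁ = κ q b ^ M * y₂ := by
    intro q y₁ y₂ h₁ h₂
    obtain ⟨m, hm⟩ := 𝒞.cover (f q)
    have h := pow_mem_span_pow (N + E₀) (hb q m hm)
    rw [← pow_mul] at h
    rw [← sub_eq_zero, ← mul_sub]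
    refine mul_eq_zero_of_mem_span (Ideal.pow_mem_of_pow_mem (m := e * (F.r m * (N + E₀) + 1)) _ h
      (Nat.mul_le_mul_left _ (Nat.add_le_add_right (Nat.mul_le_mul_right _ (Finset.single_le_sum (f := F.r) (fun _ _ => Nat.zero_le _) (Finset.mem_univ m))) 1))) fun l => ?_
    calc ρ f q (𝒞.W m) hm (F.g m l) ^ (N + E₀) * (y₁ - y₂)
        = ρ f q (𝒞.W m) hm (F.g m l) ^ E₀ * (ρ f q (𝒞.W m) hm (F.g m l) ^ N * y₁) -
          ρ f q (𝒞.W m) hm (F.g m l) ^ E₀ * (ρ f q (𝒞.W m) hm (F.g m l) ^ N * y₂) := by ring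
      _ = 0 := by rw [h₁ m hm l, h₂ m hm l, sub_self]
  let z : ∀ p, Γ(Y, V p) := fun p => Y.presheaf.map (homOfLE (le_top : V p ≤ ⊤)).op b ^ M * y p
  have hz : ∀ p q (hq : q ∈ V p), Y.presheaf.germ (V p) q hq (z p) = κ q b ^ M * Y.presheaf.germ (V p) q hq (y p) :=
    fun p q hq => by rw [map_mul, map_pow, Y.presheaf.germ_res_apply]; rfl
  obtain ⟨gl, hgl, -⟩ := Y.sheaf.existsUnique_gluing' V ⊤ (fun p => homOfLE le_top)
    (fun q _ => TopologicalSpace.Opens.mem_iSup.2 ⟨q, hpV q⟩) z fun p p' => by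
      refine TopCat.Presheaf.section_ext Y.sheaf _ _ _ fun q hq => ?_
      refine (Y.presheaf.germ_res_apply _ q hq _).trans (Eq.trans ?_ (Y.presheaf.germ_res_apply _ q hq _).symm)
      exact (hz p q hq.1).trans ((huniq q _ _ (hy p q hq.1) (hy p' q hq.2)).trans (hz p' q hq.2).symm)
  refine ⟨gl, fun q m hm l => ?_⟩
  have hgq : κ q gl = κ q b ^ M * Y.presheaf.germ (V q) q (hpV q) (y q) := by
    refine Eq.trans ?_ (hz q q (hpV q))
    exact (Y.presheaf.germ_res_apply (homOfLE le_top) q (hpV q) gl).symm.trans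
      (congrArg (Y.presheaf.germ (V q) q (hpV q)) (hgl q))
  show _ = _ * (κ q b ^ (M + M) * _)
  rw [hgq]
  calc _ = κ q b ^ M * (ρ f q (𝒞.W m) hm (F.g m l) ^ E₀ * (ρ f q (𝒞.W m) hm (F.g m l) ^ N * Y.presheaf.germ (V q) q (hpV q) (y q))) := by ring
    _ = _ := by rw [hy q q (hpV q) m hm l]; ring

/-- Uniqueness data for the sum, product and unit. -/
def Rep.raise {U : X.Opens} {F : Fam 𝒞 U} {x : Γ(X, U)} (d : Rep F x) (k j : ℕ) : Rep F x where
  N := d.N + k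
  E := d.E
  M := d.M + j
  s m l := d.s m l * F.g m l ^ k
  num m l := by rw [map_mul, map_pow, d.num, pow_add]; ring

theorem Good.raise {U : X.Opens} {F : Fam 𝒞 U} {x : Γ(X, U)} {d : Rep F x} {Y : Scheme.{u}} {f : Y ⟶ X}
    {b y : Γ(Y, ⊤)} (h : Good d f b y) (k j : ℕ) : Good (d.raise k j) f b (y * b ^ j) := fun p m hm l => by
  show _ ^ d.E * (_ ^ (d.N + k) * κ p (y * b ^ j)) = _ ^ d.E * (κ p b ^ (d.M + j) * ρ f p (𝒞.W m) hm (d.s m l * F.g m l ^ k))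
  rw [map_mul, map_pow, map_mul, map_pow]
  calc _ = ρ f p (𝒞.W m) hm (F.g m l) ^ k * κ p b ^ j *
        (ρ f p (𝒞.W m) hm (F.g m l) ^ d.E * (ρ f p (𝒞.W m) hm (F.g m l) ^ d.N * κ p y)) := by ring
    _ = _ := by rw [h p m hm l]; ring

/-- Data for a product. -/
def Rep.mul {U : X.Opens} {F : Fam 𝒞 U} {x x' : Γ(X, U)} (d : Rep F x) (d' : Rep F x') : Rep F (x * x') where
  N := d.N + d'.N
  E := d.E + d'.E
  M := d.M + d'.M
  s m l := d.s m l * d'.s m l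
  num m l := by rw [map_mul, map_mul, d.num, d'.num, pow_add]; ring

theorem Good.mul {U : X.Opens} {F : Fam 𝒞 U} {x x' : Γ(X, U)} {d : Rep F x} {d' : Rep F x'} {Y : Scheme.{u}}
    {f : Y ⟶ X} {b y y' : Γ(Y, ⊤)} (h : Good d f b y) (h' : Good d' f b y') : Good (d.mul d') f b (y * y') := fun p m hm l => by
  show _ ^ (d.E + d'.E) * (_ ^ (d.N + d'.N) * κ p (y * y')) = _ ^ (d.E + d'.E) * (κ p b ^ (d.M + d'.M) * ρ f p (𝒞.W m) hm (d.s m l * d'.s m l))
  rw [map_mul, map_mul]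
  calc _ = (ρ f p (𝒞.W m) hm (F.g m l) ^ d.E * (ρ f p (𝒞.W m) hm (F.g m l) ^ d.N * κ p y)) *
        (ρ f p (𝒞.W m) hm (F.g m l) ^ d'.E * (ρ f p (𝒞.W m) hm (F.g m l) ^ d'.N * κ p y')) := by ring
    _ = _ := by rw [h p m hm l, h' p m hm l]; ring

/-- Data for a sum, with equal exponents. -/
def Rep.add {U : X.Opens} {F : Fam 𝒞 U} {x x' : Γ(X, U)} (d : Rep F x) (d' : Rep F x') (hN : d.N = d'.N) : Rep F (x + x') where
  N := d.N
  E := d.E + d'.E
  M := d.M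
  s m l := d.s m l + d'.s m l
  num m l := by rw [map_add, map_add, d.num, d'.num, hN]; ring

theorem Good.add {U : X.Opens} {F : Fam 𝒞 U} {x x' : Γ(X, U)} {d : Rep F x} {d' : Rep F x'} {Y : Scheme.{u}}
    {f : Y ⟶ X} {b y y' : Γ(Y, ⊤)} (h : Good d f b y) (h' : Good d' f b y') (hN : d.N = d'.N) (hM : d.M = d'.M) :
    Good (d.add d' hN) f b (y + y') := fun p m hm l => by
  show _ ^ (d.E + d'.E) * (_ ^ d.N * κ p (y + y')) = _ ^ (d.E + d'.E) * (κ p b ^ d.M * ρ f p (𝒞.W m) hm (d.s m l + d'.s m l))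
  rw [map_add, map_add]
  calc _ = ρ f p (𝒞.W m) hm (F.g m l) ^ d'.E * (ρ f p (𝒞.W m) hm (F.g m l) ^ d.E * (ρ f p (𝒞.W m) hm (F.g m l) ^ d.N * κ p y)) +
        ρ f p (𝒞.W m) hm (F.g m l) ^ d.E * (ρ f p (𝒞.W m) hm (F.g m l) ^ d'.E * (ρ f p (𝒞.W m) hm (F.g m l) ^ d'.N * κ p y')) := by rw [← hN]; ring
    _ = _ := by rw [h p m hm l, h' p m hm l, ← hM]; ring

/-- Data for one. -/
def Rep.one {U : X.Opens} (F : Fam 𝒞 U) : Rep F 1 where
  N := 0
  E := 0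
  M := 0
  s _ _ := 1
  num m l := by simp

theorem Good.one {U : X.Opens} (F : Fam 𝒞 U) {Y : Scheme.{u}} (f : Y ⟶ X) (b : Γ(Y, ⊤)) : Good (Rep.one F) f b 1 :=
  fun p m hm l => by simp [Rep.one]

/-- Data for zero. -/
def Rep.zero {U : X.Opens} (F : Fam 𝒞 U) : Rep F 0 where
  N := 0
  E := 0
  M := 0
  s _ _ := 0
  num m l := by simp

theorem Good.zero {U : X.Opens} (F : Fam 𝒞 U) {Y : Scheme.{u}} (f : Y ⟶ X) (b : Γ(Y, ⊤)) : Good (Rep.zero F) f b 0 :=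
  fun p m hm l => by simp [Rep.zero]

end Groth.Agent.PiHom27
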