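import Groth.Agent.Lib.PiHom27.Core

/-!
# Morphisms out of the spectrum of a product of rings
-/

set_option autoImplicit false
universe u

open CategoryTheory CategoryTheory.Limits AlgebraicGeometry Opposite

noncomputable section

namespace Groth.Agent.PiHom27

variable {X : Scheme.{u}} {𝒞 : Cover X} [QuasiSeparatedSpace X] {ι : Type u} {Y : ι → Scheme.{u}}
  (f : ∀ i, Y i ⟶ X)

/-- Global functions on the disjoint union. -/
abbrev P (Y : ι → Scheme.{u}) : Type u := ∀ i, Γ(Y i, ⊤)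

/-- Adaptation in every component. -/
def AdaptedP {U : X.Opens} (F : Fam 𝒞 U) (b : P Y) (e : ℕ) : Prop := ∀ i, Adapted F (f i) (b i) e

/-- The value attached to good data. -/
def IsVal {U : X.Opens} (F : Fam 𝒞 U) (b : P Y) (x : Γ(X, U)) (z : Localization.Away b) : Prop :=
  ∃ (d : Rep F x) (y : P Y), (∀ i, Good d (f i) (b i) (y i)) ∧
    z * algebraMap (P Y) (Localization.Away b) b ^ d.M = algebraMap (P Y) (Localization.Away b) y

theorem isUnit_self (b : P Y) : IsUnit (algebraMap (P Y) (Localization.Away b) b) :=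
  IsLocalization.Away.algebraMap_isUnit b

theorem exists_compare_pi {U U' : X.Opens} (F : Fam 𝒞 U) (F' : Fam 𝒞 U') {e e' : ℕ} (b b' : P Y)
    (hb : AdaptedP f F b e) (hb' : AdaptedP f F' b' e') {x u h : Γ(X, U)} {x' : Γ(X, U')}
    (heq : X.presheaf.map (homOfLE ((inf_le_right : U' ⊓ X.basicOpen h ≤ X.basicOpen h).trans (X.basicOpen_le h))).op x =
      X.presheaf.map (homOfLE (inf_le_left : U' ⊓ X.basicOpen h ≤ U')).op x' *
        X.presheaf.map (homOfLE ((inf_le_right : U' ⊓ X.basicOpen h ≤ X.basicOpen h).trans (X.basicOpen_le h))).op u)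
    {zx zu zh : Localization.Away b} {zx' : Localization.Away b'}
    (hx : IsVal f F b x zx) (hu : IsVal f F b u zu) (hh : IsVal f F b h zh) (hx' : IsVal f F' b' x' zx')
    {S : Type u} [CommRing S] (χ : Localization.Away b →+* S) (χ' : Localization.Away b' →+* S)
    (hχ : χ.comp (algebraMap (P Y) _) = χ'.comp (algebraMap (P Y) _)) (hw : IsUnit (χ zh)) :
    χ zx = χ' zx' * χ zu := by
  obtain ⟨dx, yx, gx, ex⟩ := hx
  obtain ⟨du, yu, gu, eu⟩ := hu
  obtain ⟨dh, yh, gh, eh⟩ := hh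
  obtain ⟨dx', yx', gx', ex'⟩ := hx'
  obtain ⟨K, A, hK⟩ := exists_compare dx du dh dx' heq e e'
  have h0 : (b * b') ^ K * (yh ^ A * (yx * b' ^ dx'.M * b ^ du.M - yx' * yu * b ^ dx.M)) = 0 :=
    funext fun i => hK (f i) (b i) (b' i) (hb i) (hb' i) (yx i) (yu i) (yh i) (yx' i) (gx i) (gu i) (gh i) (gx' i)
  let θ := χ.comp (algebraMap (P Y) (Localization.Away b))
  have hθ' : ∀ a, θ a = χ' (algebraMap (P Y) _ a) := fun a => RingHom.congr_fun hχ a
  have ub : IsUnit (θ b) := (isUnit_self b).map χ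
  have ub' : IsUnit (θ b') := by rw [hθ']; exact (isUnit_self b').map χ'
  have Ex : θ yx = χ zx * θ b ^ dx.M := by
    show χ _ = χ zx * χ _ ^ dx.M; rw [← ex, map_mul, map_pow]
  have Eu : θ yu = χ zu * θ b ^ du.M := by
    show χ _ = χ zu * χ _ ^ du.M; rw [← eu, map_mul, map_pow]
  have Eh : θ yh = χ zh * θ b ^ dh.M := by
    show χ _ = χ zh * χ _ ^ dh.M; rw [← eh, map_mul, map_pow]
  have Ex' : θ yx' = χ' zx' * θ b' ^ dx'.M := by
    rw [hθ' yx', hθ' b', ← ex', map_mul, map_pow]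
  have h1 := congrArg θ h0
  simp only [map_mul, map_pow, map_sub, map_zero, Ex, Eu, Eh, Ex'] at h1
  have hunit : IsUnit ((θ b * θ b') ^ K * ((χ zh * θ b ^ dh.M) ^ A * (θ b ^ dx.M * θ b' ^ dx'.M * θ b ^ du.M))) :=
    ((ub.mul ub').pow K).mul (((hw.mul (ub.pow _)).pow A).mul (((ub.pow _).mul (ub'.pow _)).mul (ub.pow _)))
  refine sub_eq_zero.1 (hunit.mul_right_eq_zero.1 (Eq.trans ?_ h1))
  ring

theorem isVal_one {U : X.Opens} (F : Fam 𝒞 U) (b : P Y) : IsVal f F b 1 1 :=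
  ⟨Rep.one F, 1, fun i => Good.one F (f i) (b i), by simp [Rep.one]⟩

theorem isVal_zero {U : X.Opens} (F : Fam 𝒞 U) (b : P Y) : IsVal f F b 0 0 :=
  ⟨Rep.zero F, 0, fun i => Good.zero F (f i) (b i), by simp⟩

theorem IsVal.mul {U : X.Opens} {F : Fam 𝒞 U} {b : P Y} {x x' : Γ(X, U)} {z z' : Localization.Away b}
    (h : IsVal f F b x z) (h' : IsVal f F b x' z') : IsVal f F b (x * x') (z * z') := by
  obtain ⟨d, y, g, e⟩ := h
  obtain ⟨d', y', g', e'⟩ := h'
  refine ⟨d.mul d', y * y', fun i => (g i).mul (g' i), ?_⟩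
  show _ * _ ^ (d.M + d'.M) = _
  rw [map_mul, ← e, ← e', pow_add]
  ring

theorem IsVal.add {U : X.Opens} {F : Fam 𝒞 U} {b : P Y} {x x' : Γ(X, U)} {z z' : Localization.Away b}
    (h : IsVal f F b x z) (h' : IsVal f F b x' z') : IsVal f F b (x + x') (z + z') := by
  obtain ⟨d, y, g, e⟩ := h
  obtain ⟨d', y', g', e'⟩ := h'
  refine ⟨(d.raise d'.N d'.M).add (d'.raise d.N d.M) (Nat.add_comm d.N d'.N), y * b ^ d'.M + y' * b ^ d.M,
    fun i => ((g i).raise d'.N d'.M).add ((g' i).raise d.N d.M) (Nat.add_comm d.N d'.N) (Nat.add_comm d.M d'.M), ?_⟩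
  show _ * _ ^ (d.M + d'.M) = _
  rw [map_add, map_mul, map_mul, map_pow, map_pow, ← e, ← e', pow_add]
  ring

theorem isVal_exists {U : X.Opens} (F : Fam 𝒞 U) {b : P Y} {e : ℕ} (hb : AdaptedP f F b e) (x : Γ(X, U)) :
    ∃ z, IsVal f F b x z := by
  obtain ⟨d, hd⟩ := exists_rep F x e
  choose y hy using fun i => hd (f i) (b i) (hb i)
  obtain ⟨v, hv⟩ := (isUnit_self b).pow d.M
  refine ⟨algebraMap _ _ y * ↑v⁻¹, d, y, hy, ?_⟩
  rw [← hv, mul_assoc, Units.inv_mul, mul_one]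

theorem isVal_unique {U : X.Opens} (F : Fam 𝒞 U) {b : P Y} {e : ℕ} (hb : AdaptedP f F b e) {x : Γ(X, U)}
    {z z' : Localization.Away b} (h : IsVal f F b x z) (h' : IsVal f F b x z') : z = z' := by
  have := exists_compare_pi f F F b b hb hb (x := x) (u := 1) (h := 1) (x' := x) (by simp)
    h (isVal_one f F b) (isVal_one f F b) h' (RingHom.id _) (RingHom.id _) rfl isUnit_one
  simpa using this

theorem exists_hom {U : X.Opens} (F : Fam 𝒞 U) {b : P Y} {e : ℕ} (hb : AdaptedP f F b e) :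
    ∃ φ : Γ(X, U) →+* Localization.Away b, ∀ x, IsVal f F b x (φ x) := by
  choose φ hφ using isVal_exists f F hb
  exact ⟨{ toFun := φ
           map_one' := isVal_unique f F hb (hφ 1) (isVal_one f F b)
           map_zero' := isVal_unique f F hb (hφ 0) (isVal_zero f F b)
           map_mul' := fun x y => isVal_unique f F hb (hφ _) ((hφ x).mul f (hφ y))
           map_add' := fun x y => isVal_unique f F hb (hφ _) ((hφ x).add f (hφ y)) }, hφ⟩

/-- Membership in an ideal of global functions on an affine scheme, germ by germ. -/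
theorem mem_span_of_κ {Z : Scheme.{u}} [IsAffine Z] {κ' : Type*} (y : κ' → Γ(Z, ⊤)) (z : Γ(Z, ⊤))
    (h : ∀ p, κ p z ∈ Ideal.span (Set.range fun t => κ p (y t))) : z ∈ Ideal.span (Set.range y) := by
  set I := Ideal.span (Set.range y)
  let C : Ideal Γ(Z, ⊤) := Submodule.colon I ({z} : Set Γ(Z, ⊤))
  by_contra hz
  have hC : C ≠ ⊤ := fun h1 => hz (by
    have := Submodule.mem_colon.1 ((Ideal.eq_top_iff_one C).1 h1) z (Set.mem_singleton z)
    simpa using this)
  obtain ⟨M, hM, hle⟩ := Ideal.exists_le_maximal C hC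
  have hY := isAffineOpen_top Z
  let q : PrimeSpectrum Γ(Z, ⊤) := ⟨M, hM.isPrime⟩
  have hmem : hY.fromSpec q ∈ (⊤ : Z.Opens) := trivial
  letI : Algebra Γ(Z, ⊤) (Z.presheaf.stalk (hY.fromSpec q)) := TopCat.Presheaf.algebra_section_stalk Z.presheaf ⟨_, hmem⟩
  haveI : IsLocalization.AtPrime (Z.presheaf.stalk (hY.fromSpec q)) q.asIdeal := hY.isLocalization_stalk' q hmem
  have h' : algebraMap Γ(Z, ⊤) (Z.presheaf.stalk (hY.fromSpec q)) z ∈ I.map (algebraMap _ _) := by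
    rw [Ideal.map_span, ← Set.range_comp]
    exact h (hY.fromSpec q)
  obtain ⟨r, hr, hrz⟩ := (IsLocalization.algebraMap_mem_map_algebraMap_iff q.asIdeal.primeCompl _ _ _).1 h'
  refine hr (hle (Submodule.mem_colon.2 fun w hw => ?_))
  rw [Set.mem_singleton_iff.1 hw]
  exact hrz

theorem mul_mem_of_mem_span {S : Type*} [CommRing S] {κ' : Type*} {g : κ' → S} {I : Ideal S} {a z : S}
    (ha : a ∈ Ideal.span (Set.range g)) (h : ∀ l, g l * z ∈ I) : a * z ∈ I := by
  have hle : Ideal.span (Set.range g) ≤ Submodule.colon I ({z} : Set S) := by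
    refine Ideal.span_le.2 ?_
    rintro _ ⟨l, rfl⟩
    exact Submodule.mem_colon.2 fun w hw => by rw [Set.mem_singleton_iff.1 hw]; exact h l
  exact Submodule.mem_colon.1 (hle ha) z (Set.mem_singleton z)

theorem exists_overlap_cover [∀ i, IsAffine (Y i)] {U U' : X.Opens} (F : Fam 𝒞 U) (F' : Fam 𝒞 U') {b b' : P Y}
    {e e' : ℕ} (hb : AdaptedP f F b e) (hb' : AdaptedP f F' b' e') {T : ℕ} (h : Fin T → Γ(X, U))
    (hcov : U ⊓ U' ≤ ⨆ t, X.basicOpen (h t)) (z : Fin T → Localization.Away b) (hz : ∀ t, IsVal f F b (h t) (z t))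
    {S : Type u} [CommRing S] (χ : Localization.Away b →+* S) (hb'u : IsUnit (χ (algebraMap (P Y) _ b'))) :
    Ideal.span (Set.range fun t => χ (z t)) = ⊤ := by
  classical
  choose d y hy hyz using hz
  -- the relation in every chart
  have hrel : ∀ m (l : Fin (F.r m)) (l' : Fin (F'.r m)), ∃ Z : ℕ,
      (F.g m l * F'.g m l') ^ Z ∈ Ideal.span (Set.range fun t => (d t).s m l) := by
    intro m l l'
    refine exists_pow_mem_span_of_basicOpen_le (𝒞.affine m) _ _ fun x hx => ?_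
    rw [Scheme.basicOpen_mul] at hx
    obtain ⟨t, ht⟩ := TopologicalSpace.Opens.mem_iSup.1 (hcov ⟨F.le m l hx.1, F'.le m l' hx.2⟩)
    refine TopologicalSpace.Opens.mem_iSup.2 ⟨t, ?_⟩
    have h4 := congrArg (fun r => X.basicOpen r) ((d t).num m l)
    simp only [Scheme.basicOpen_res, Scheme.basicOpen_mul] at h4
    have hpow : x ∈ X.basicOpen (X.presheaf.map (homOfLE (X.basicOpen_le (F.g m l))).op (F.g m l) ^ (d t).N) := by
      rcases Nat.eq_zero_or_pos (d t).N with h0 | h0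
      · rw [h0, pow_zero, Scheme.basicOpen_of_isUnit _ isUnit_one]; exact hx.1
      · rw [X.basicOpen_pow _ h0, Scheme.basicOpen_res]; exact ⟨hx.1, hx.1⟩
    exact (h4.ge (show x ∈ X.basicOpen _ ⊓ (X.basicOpen (F.g m l) ⊓ X.basicOpen (h t)) from ⟨hpow, hx.1, ht⟩)).2
  choose Z hZ using hrel
  let Z₀ := ∑ m, ∑ l, ∑ l', Z m l l'
  have hZ₀ : ∀ m l l', Z m l l' ≤ Z₀ := fun m l l' =>
    ((Finset.single_le_sum (f := fun l'' => Z m l l'') (fun _ _ => Nat.zero_le _) (Finset.mem_univ l')).trans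
      (Finset.single_le_sum (f := fun l'' => ∑ l', Z m l'' l') (fun _ _ => Nat.zero_le _) (Finset.mem_univ l))).trans
      (Finset.single_le_sum (f := fun m' => ∑ l, ∑ l', Z m' l l') (fun _ _ => Nat.zero_le _) (Finset.mem_univ m))
  let E₀ := ∑ t, (d t).E
  let M₀ := ∑ t, (d t).M
  let B := E₀ + Z₀
  let K := e * ((∑ m, F.r m) * B + 1)
  let K' := e' * ((∑ m, F'.r m) * Z₀ + 1)
  let z₀ : P Y := b ^ K * (b' ^ K' * b ^ M₀)
  have hmem : ∀ i, z₀ i ∈ Ideal.span (Set.range fun t => y t i) := fun i => by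
    refine mem_span_of_κ _ _ fun p => ?_
    obtain ⟨m, hm⟩ := 𝒞.cover (f i p)
    let γ := fun l => ρ (f i) p (𝒞.W m) hm (F.g m l)
    let γ' := fun l => ρ (f i) p (𝒞.W m) hm (F'.g m l)
    have h1 : κ p (b i) ^ K ∈ Ideal.span (Set.range fun l => γ l ^ B) := by
      have h := pow_mem_span_pow B (hb i p m hm)
      rw [← pow_mul] at h
      exact Ideal.pow_mem_of_pow_mem (m := e * (F.r m * B + 1)) _ h
        (Nat.mul_le_mul_left _ (Nat.add_le_add_right (Nat.mul_le_mul_right _ (Finset.single_le_sum (f := F.r) (fun _ _ => Nat.zero_le _) (Finset.mem_univ m))) 1))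
    have h2 : κ p (b' i) ^ K' ∈ Ideal.span (Set.range fun l => γ' l ^ Z₀) := by
      have h := pow_mem_span_pow Z₀ (hb' i p m hm)
      rw [← pow_mul] at h
      exact Ideal.pow_mem_of_pow_mem (m := e' * (F'.r m * Z₀ + 1)) _ h
        (Nat.mul_le_mul_left _ (Nat.add_le_add_right (Nat.mul_le_mul_right _ (Finset.single_le_sum (f := F'.r) (fun _ _ => Nat.zero_le _) (Finset.mem_univ m))) 1))
    show κ p (b i ^ K * (b' i ^ K' * b i ^ M₀)) ∈ _
    rw [map_mul, map_mul, map_pow, map_pow, map_pow]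
    refine mul_mem_of_mem_span h1 fun l => ?_
    rw [mul_left_comm]
    refine mul_mem_of_mem_span h2 fun l' => ?_
    have h3 : (F.g m l * F'.g m l') ^ Z₀ ∈ Ideal.span (Set.range fun t => (d t).s m l) :=
      Ideal.pow_mem_of_pow_mem _ (hZ m l l') (hZ₀ m l l')
    obtain ⟨a, ha⟩ := (Submodule.mem_span_range_iff_exists_fun _).1 h3
    have ha' := congrArg (ρ (f i) p (𝒞.W m) hm) ha
    simp only [smul_eq_mul, map_sum, map_mul, map_pow] at ha'
    have : γ' l' ^ Z₀ * (γ l ^ B * κ p (b i) ^ M₀) =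
        γ l ^ E₀ * κ p (b i) ^ M₀ * ((γ l * γ' l') ^ Z₀) := by simp only [B]; ring
    rw [this, ← ha', Finset.mul_sum]
    refine sum_mem fun t _ => ?_
    obtain ⟨E', hE'⟩ := Nat.exists_eq_add_of_le (Finset.single_le_sum (f := fun t => (d t).E) (fun _ _ => Nat.zero_le _) (Finset.mem_univ t))
    obtain ⟨M', hM'⟩ := Nat.exists_eq_add_of_le (Finset.single_le_sum (f := fun t => (d t).M) (fun _ _ => Nat.zero_le _) (Finset.mem_univ t))
    have hgood := hy t i p m hm l
    have hk : γ l ^ E₀ * κ p (b i) ^ M₀ * (ρ (f i) p (𝒞.W m) hm (a t) * ρ (f i) p (𝒞.W m) hm ((d t).s m l)) =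
        (γ l ^ E' * κ p (b i) ^ M' * ρ (f i) p (𝒞.W m) hm (a t) * γ l ^ ((d t).E + (d t).N)) * κ p (y t i) := by
      rw [show E₀ = (d t).E + E' from hE', show M₀ = (d t).M + M' from hM']
      calc _ = γ l ^ E' * κ p (b i) ^ M' * ρ (f i) p (𝒞.W m) hm (a t) *
            (γ l ^ (d t).E * (κ p (b i) ^ (d t).M * ρ (f i) p (𝒞.W m) hm ((d t).s m l))) := by ring
        _ = _ := by rw [← hgood]; ring
    rw [hk]
    exact Ideal.mul_mem_left _ _ (Ideal.subset_span ⟨t, rfl⟩)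
  have hP : z₀ ∈ Ideal.span (Set.range y) := by
    choose c hc using fun i => (Submodule.mem_span_range_iff_exists_fun _).1 (hmem i)
    refine (Submodule.mem_span_range_iff_exists_fun _).2 ⟨fun t i => c i t, funext fun i => ?_⟩
    rw [Finset.sum_apply, ← hc i]
    rfl
  let θ := χ.comp (algebraMap (P Y) (Localization.Away b))
  have hunit : IsUnit (θ z₀) := by
    simp only [z₀, map_mul, map_pow]
    exact (((isUnit_self b).map χ).pow _).mul ((hb'u.pow _).mul (((isUnit_self b).map χ).pow _))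
  refine Ideal.eq_top_of_isUnit_mem _ ?_ hunit
  have h5 := Ideal.mem_map_of_mem θ hP
  rw [Ideal.map_span] at h5
  refine Ideal.span_le.2 ?_ h5
  rintro _ ⟨_, ⟨t, rfl⟩, rfl⟩
  show χ (algebraMap _ _ (y t)) ∈ _
  rw [← hyz t, map_mul]
  exact Ideal.mul_mem_right _ _ (Ideal.subset_span ⟨t, rfl⟩)

theorem res_eq_mul_appLE {U : X.Opens} (F : Fam 𝒞 U) {b : P Y} {e : ℕ} (hb : AdaptedP f F b e) {x : Γ(X, U)}
    {d : Rep F x} {y : P Y} (hy : ∀ i, Good d (f i) (b i) (y i)) (i : ι) (hV : (Y i).basicOpen (b i) ≤ f i ⁻¹ᵁ U) :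
    (Y i).presheaf.map (homOfLE ((Y i).basicOpen_le (b i))).op (y i) =
      (Y i).presheaf.map (homOfLE ((Y i).basicOpen_le (b i))).op (b i) ^ d.M *
        (f i).appLE U ((Y i).basicOpen (b i)) hV x := by
  refine TopCat.Presheaf.section_ext (Y i).sheaf _ _ _ fun p hp => ?_
  show (Y i).presheaf.germ _ p hp _ = (Y i).presheaf.germ _ p hp _
  rw [map_mul, map_pow, (Y i).presheaf.germ_res_apply, (Y i).presheaf.germ_res_apply]
  have hgerm : (Y i).presheaf.germ ((Y i).basicOpen (b i)) p hp ((f i).appLE U _ hV x) = ρ (f i) p U (hV hp) x := by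
    rw [Scheme.Hom.appLE, ConcreteCategory.comp_apply, (Y i).presheaf.germ_res_apply]
    exact (ConcreteCategory.congr_hom ((f i).germ_stalkMap U p (hV hp)) x).symm
  rw [hgerm]
  show κ p (y i) = κ p (b i) ^ d.M * ρ (f i) p U (hV hp) x
  have hu : IsUnit (κ p (b i)) := ((Y i).mem_basicOpen (b i) p trivial).1 hp
  obtain ⟨m, hm⟩ := 𝒞.cover (f i p)
  obtain ⟨l, hl⟩ : ∃ l, IsUnit (ρ (f i) p (𝒞.W m) hm (F.g m l)) := by
    by_contra hne
    simp only [not_exists] at hne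
    have hle : Ideal.span (Set.range fun l => ρ (f i) p (𝒞.W m) hm (F.g m l)) ≤ IsLocalRing.maximalIdeal _ := by
      refine Ideal.span_le.2 ?_
      rintro _ ⟨l, rfl⟩
      exact (IsLocalRing.mem_maximalIdeal _).2 (hne l)
    exact (IsLocalRing.mem_maximalIdeal _).1 (hle (hb i p m hm)) (hu.pow e)
  have hmem : f i p ∈ X.basicOpen (F.g m l) :=
    (X.mem_basicOpen (F.g m l) (f i p) hm).2 (isUnit_of_map_unit ((f i).stalkMap p).hom _ hl)
  have h1 := hy i p m hm l
  have h2 := congrArg (ρ (f i) p (X.basicOpen (F.g m l)) hmem) (d.num m l)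
  rw [map_mul, map_pow, ρ_res, ρ_res, ρ_res] at h2
  rw [h2] at h1
  refine (hl.pow d.N).mul_left_cancel ((hl.pow d.E).mul_left_cancel (h1.trans ?_))
  ring

end Groth.Agent.PiHom27
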